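import Groth.Agent.UnivOpen.SectionUnivOpen
import Groth.Agent.FlatDvrVC5.UnivOpenFlat
import Groth.Prelude.Def_MoreMor

/-!
# The components of the fibres along a section
-/

set_option autoImplicit false
set_option linter.style.haveILetI false
set_option backward.isDefEq.respectTransparency false
set_option backward.isDefEq.respectTransparency.types false

universe u

open CategoryTheory CategoryTheory.Limits AlgebraicGeometry

namespace Groth.Agent.SectComp

variable {X Y : Scheme.{u}} {f : X ⟶ Y} {g : Y ⟶ X}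

/-- The component of the fibre is stable under generization in the fibre. -/
theorem mem_component_of_specializes {y : Y} {v w : X} (hv : f v = y)
    (hw : w ∈ connectedComponentIn (f.base ⁻¹' {y}) (g y)) (h : v ⤳ w) :
    v ∈ connectedComponentIn (f.base ⁻¹' {y}) (g y) := by
  have hsub : ({v, w} : Set X) ⊆ f.base ⁻¹' {y} :=
    Set.insert_subset_iff.2 ⟨hv, Set.singleton_subset_iff.2 (connectedComponentIn_subset _ _ hw)⟩
  have hpre : _root_.IsPreconnected ({v, w} : Set X) :=
    isPreconnected_singleton.subset_closure (s := {v}) (by simp)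
      (Set.insert_subset_iff.2 ⟨subset_closure rfl, Set.singleton_subset_iff.2 (specializes_iff_mem_closure.1 h)⟩)
  rw [connectedComponentIn_eq hw]
  exact hpre.subset_connectedComponentIn (by simp) hsub (by simp)

theorem mem_component_of_closure {x : X} (hx : x ∈ MoreMor.sectionComponents f g) (z : ↥(f.fiber (f.base x)))
    (hz : f.asFiber x ∈ closure {z}) :
    f.fiberι (f.base x) z ∈ connectedComponentIn (f.base ⁻¹' {f x}) (g (f x)) := by
  refine mem_component_of_specializes (FlatDvr.fiberι_apply_eq f z) hx ?_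
  have h := (specializes_iff_mem_closure.2 hz).map (f.fiberι (f.base x)).continuous
  rwa [Scheme.Hom.fiberι_asFiber] at h

theorem dim_le_of_const {y : Y}
    (h : ∃ V ∈ nhds y, ∀ z ∈ V, topologicalKrullDim ↥(connectedComponentIn (f.base ⁻¹' {z}) (g.base z)) =
      topologicalKrullDim ↥(connectedComponentIn (f.base ⁻¹' {y}) (g.base y))) :
    ∃ U : Y.Opens, y ∈ U ∧ ∀ z ∈ U, ∀ z', z' ⤳ z →
      topologicalKrullDim ↥(connectedComponentIn (f.base ⁻¹' {z}) (g.base z)) ≤
        topologicalKrullDim ↥(connectedComponentIn (f.base ⁻¹' {z'}) (g.base z')) := by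
  obtain ⟨V, hV, hc⟩ := h
  obtain ⟨W, hWV, hW, hyW⟩ := mem_nhds_iff.1 hV
  exact ⟨⟨W, hW⟩, hyW, fun z hz z' hz' => le_of_eq ((hc z (hWV hz)).trans (hc z' (hWV (hz'.mem_open hW hz))).symm)⟩

theorem flat_of_univOpen [IsLocallyNoetherian Y] [LocallyOfFiniteType f] {x : X}
    (hx : x ∈ MoreMor.sectionComponents f g)
    (hopen : ∀ v ∈ connectedComponentIn (f.base ⁻¹' {f x}) (g (f x)), EGA43.IsUnivOpenAt f v)
    (hred : FBase.IsGeomReducedAt (f.fiberToSpecResidueField (f.base x)) (f.asFiber x))
    [IsReduced Y] : (f.stalkMap x).hom.Flat :=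
  FlatDvrVC5.flat_stalkMap_of_univOpen f x (fun z hz _ => hopen _ (mem_component_of_closure hx z hz)) hred
    inferInstance

end Groth.Agent.SectComp
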